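import Mathlib

/-!
The theorem of Higman, Kreknin and Kostrikin for Lie rings graded by a cyclic group of prime
order with trivial zero component.
-/

set_option autoImplicit false
set_option linter.unusedSectionVars false

namespace Cfsg.Agent.HigmanFPF

variable {p : ℕ} [hp : Fact p.Prime] {M : Type*} [LieRing M]

/-- The bracket of two families, sorted by degree. -/
def fbr (W U : ZMod p → AddSubgroup M) (a : ZMod p) : AddSubgroup M :=
  AddSubgroup.closure {z | ∃ i j x y, i + j = a ∧ x ∈ W i ∧ y ∈ U j ∧ z = ⁅x, y⁆}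

/-- The graded derived series. -/
def dser (W : ZMod p → AddSubgroup M) : ℕ → ZMod p → AddSubgroup M
  | 0 => W
  | n + 1 => fbr (dser W n) (dser W n)

/-- The graded lower central series. -/
def lser (W : ZMod p → AddSubgroup M) : ℕ → ZMod p → AddSubgroup M
  | 0 => W
  | n + 1 => fbr (lser W n) W

/-- A graded subring without part of degree zero. -/
structure IsFree (W : ZMod p → AddSubgroup M) : Prop where
  zero : W 0 = ⊥
  mul : ∀ {i j : ZMod p} {x y : M}, x ∈ W i → y ∈ W j → ⁅x, y⁆ ∈ W (i + j)

/-- Monomials in the components of degree greater than `k`. -/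
inductive Mono (k : ℕ) (W : ZMod p → AddSubgroup M) : ZMod p → M → Prop
  | base {a : ZMod p} {x : M} : k < a.val → x ∈ W a → Mono k W a x
  | step {a b : ZMod p} {u c : M} : Mono k W a u → k < b.val → c ∈ W b → Mono k W (a + b) ⁅u, c⁆

/-- The subring generated by the components of degree greater than `k`. -/
def gen (k : ℕ) (W : ZMod p → AddSubgroup M) (a : ZMod p) : AddSubgroup M :=
  AddSubgroup.closure {x | Mono k W a x}

variable {W : ZMod p → AddSubgroup M}

theorem mem_fbr {W U : ZMod p → AddSubgroup M} {i j : ZMod p} {x y : M} (hx : x ∈ W i) (hy : y ∈ U j) :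
    ⁅x, y⁆ ∈ fbr W U (i + j) :=
  AddSubgroup.subset_closure ⟨i, j, x, y, rfl, hx, hy, rfl⟩

theorem fbr_le (hW : IsFree W) {U U' : ZMod p → AddSubgroup M} (hU : ∀ a, U a ≤ W a)
    (hU' : ∀ a, U' a ≤ W a) (a : ZMod p) : fbr U U' a ≤ W a := by
  rw [fbr, AddSubgroup.closure_le]
  rintro _ ⟨i, j, x, y, rfl, hx, hy, rfl⟩
  exact hW.mul (hU _ hx) (hU' _ hy)

theorem dser_le (hW : IsFree W) (n : ℕ) : ∀ a, dser W n a ≤ W a := by
  induction n with
  | zero => exact fun a => le_rfl
  | succ n ih => exact fbr_le hW ih ih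

theorem lser_le (hW : IsFree W) (n : ℕ) : ∀ a, lser W n a ≤ W a := by
  induction n with
  | zero => exact fun a => le_rfl
  | succ n ih => exact fbr_le hW ih (fun _ => le_rfl)

theorem dser_add (W : ZMod p → AddSubgroup M) (m n : ℕ) : dser (dser W m) n = dser W (m + n) := by
  induction n with
  | zero => rfl
  | succ n ih =>
    show fbr _ _ = fbr _ _
    rw [ih]
    rfl

theorem isFree_dser (hW : IsFree W) (n : ℕ) : IsFree (dser W n) := by
  induction n with
  | zero => exact hW
  | succ n ih =>
    refine ⟨le_bot_iff.mp (le_trans (dser_le hW (n + 1) 0) hW.zero.le), fun {i j x y} hx hy => ?_⟩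
    exact mem_fbr (fbr_le ih (fun _ => le_rfl) (fun _ => le_rfl) _ hx)
      (fbr_le ih (fun _ => le_rfl) (fun _ => le_rfl) _ hy)

theorem gen_mul {k : ℕ} {a b : ZMod p} {x y : M} (hx : x ∈ gen k W a) (hy : y ∈ gen k W b) :
    ⁅x, y⁆ ∈ gen k W (a + b) := by
  have hstep : ∀ {a b : ZMod p} {x c : M}, x ∈ gen k W a → k < b.val → c ∈ W b →
      ⁅x, c⁆ ∈ gen k W (a + b) := by
    intro a b x c hx hb hc
    induction hx using AddSubgroup.closure_induction with
    | mem x hx => exact AddSubgroup.subset_closure (Mono.step hx hb hc)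
    | zero => simp
    | add x y _ _ h1 h2 => rw [add_lie]; exact add_mem h1 h2
    | neg x _ h => rw [neg_lie]; exact neg_mem h
  induction hy using AddSubgroup.closure_induction with
  | mem y hy =>
    induction hy generalizing a x with
    | base hb hc => exact hstep hx hb hc
    | @step i j u c _ hj hc ih =>
      have e : ⁅x, ⁅u, c⁆⁆ = ⁅⁅x, u⁆, c⁆ - ⁅⁅x, c⁆, u⁆ := by
        rw [leibniz_lie x u c, ← lie_skew u ⁅x, c⁆]; abel
      rw [e]
      refine sub_mem ?_ ?_
      · rw [← add_assoc]; exact hstep (ih hx) hj hc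
      · rw [show a + (i + j) = a + j + i by ring]; exact ih (hstep hx hj hc)
  | zero => simp
  | add x y _ _ h1 h2 => rw [lie_add]; exact add_mem h1 h2
  | neg x _ h => rw [lie_neg]; exact neg_mem h

theorem Mono.mem {k : ℕ} {W : ZMod p → AddSubgroup M} (hW : IsFree W) {b : ZMod p} {y : M}
    (hy : Mono k W b y) : y ∈ W b := by
  induction hy with
  | base _ h => exact h
  | step _ _ h' ih => exact hW.mul ih h'

theorem mem_gen_of_sum {k : ℕ} (hW : IsFree W) (hk : k + 1 < p) {b : ZMod p} {y : M}
    (hy : Mono k W b y) : ∀ {a : ZMod p} {x : M}, x ∈ W a → a + b = ((k + 1 : ℕ) : ZMod p) →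
      ⁅x, y⁆ ∈ gen (k + 1) W (a + b) := by
  have hlast : ∀ {a b : ZMod p} {x c : M}, x ∈ W a → k < b.val → c ∈ W b →
      a + b = ((k + 1 : ℕ) : ZMod p) → ⁅x, c⁆ ∈ gen (k + 1) W (a + b) := by
    intro a b x c hx hb hc hab
    have hk1 : ((k + 1 : ℕ) : ZMod p).val = k + 1 := ZMod.val_natCast_of_lt hk
    rcases (Nat.succ_le_iff.mpr hb).eq_or_lt with e | hb'
    · have ha : a = 0 := by
        have hb0 : b = ((k + 1 : ℕ) : ZMod p) := ZMod.val_injective p (by rw [hk1]; exact e.symm)
        rw [← hb0] at hab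
        simpa using hab
      rw [ha, hW.zero] at hx
      rw [AddSubgroup.mem_bot.mp hx, zero_lie]
      exact zero_mem _
    · have ha : k + 1 < a.val := by
        by_contra hle
        have h1 := ZMod.val_add a b
        rw [hab, hk1] at h1
        have hlt := b.val_lt
        have ha0 := a.val_lt
        rcases Nat.lt_or_ge (a.val + b.val) p with h | h
        · rw [Nat.mod_eq_of_lt h] at h1; omega
        · rw [Nat.mod_eq_sub_mod h, Nat.mod_eq_of_lt (by omega)] at h1; omega
      exact gen_mul (AddSubgroup.subset_closure (.base ha hx)) (AddSubgroup.subset_closure (.base hb' hc))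
  induction hy with
  | base hb hc => exact fun hx hab => hlast hx hb hc hab
  | @step i j u c hu hj hc ih =>
    intro a x hx hab
    have e : ⁅x, ⁅u, c⁆⁆ = ⁅⁅x, u⁆, c⁆ - ⁅⁅x, c⁆, u⁆ := by
      rw [leibniz_lie x u c, ← lie_skew u ⁅x, c⁆]; abel
    have hu' : u ∈ W i := hu.mem hW
    rw [e]
    refine sub_mem ?_ ?_
    · rw [← add_assoc]; exact hlast (hW.mul hx hu') hj hc (by rw [add_assoc]; exact hab)
    · rw [show a + (i + j) = a + j + i by ring]
      exact ih (hW.mul hx hc) (by rw [← hab]; ring)

theorem dser_le_gen (k : ℕ) : k < p → ∀ (W : ZMod p → AddSubgroup M), IsFree W →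
    ∀ a, dser W (2 ^ k - 1) a ≤ gen k W a := by
  induction k with
  | zero =>
    intro _ W hW a x hx
    by_cases ha : a = 0
    · subst ha
      change x ∈ W 0 at hx
      rw [hW.zero] at hx
      rw [AddSubgroup.mem_bot.mp hx]
      exact zero_mem _
    · exact AddSubgroup.subset_closure (.base (Nat.pos_of_ne_zero (by simpa using ha)) hx)
  | succ k ih =>
    intro hk W hW
    set n := 2 ^ k - 1
    have hmid : ∀ a : ZMod p, a.val = k + 1 → dser W (n + 1) a ≤ gen (k + 1) W a := by
      intro a ha
      show fbr _ _ a ≤ _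
      rw [fbr, AddSubgroup.closure_le]
      rintro _ ⟨i, j, x, y, rfl, hx, hy, rfl⟩
      have hy' := ih (by omega) W hW _ hy
      have hx' := dser_le hW n _ hx
      clear hy
      induction hy' using AddSubgroup.closure_induction with
      | mem y hy => exact mem_gen_of_sum hW hk hy hx' (by rw [← ha, ZMod.natCast_zmod_val])
      | zero => simp
      | add x y _ _ h1 h2 => rw [lie_add]; exact add_mem h1 h2
      | neg x _ h => rw [lie_neg]; exact neg_mem h
    intro a
    have hn : 2 ^ (k + 1) - 1 = (n + 1) + n := by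
      have := Nat.one_le_two_pow (n := k)
      rw [pow_succ]; omega
    rw [hn, ← dser_add]
    refine (ih (by omega) _ (isFree_dser hW _) a).trans ?_
    rw [gen, AddSubgroup.closure_le]
    intro x hx
    induction hx with
    | @base b x hb hx =>
      rcases (Nat.succ_le_iff.mpr hb).eq_or_lt with e | e
      · exact hmid b e.symm hx
      · exact AddSubgroup.subset_closure (.base e (dser_le hW _ _ hx))
    | @step i j u c _ hj hc ih =>
      refine gen_mul ih ?_
      rcases (Nat.succ_le_iff.mpr hj).eq_or_lt with e | e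
      · exact hmid j e.symm hc
      · exact AddSubgroup.subset_closure (.base e (dser_le hW _ _ hc))

/-- Kreknin: the derived length is at most `2 ^ (p - 1) - 1`. -/
theorem dser_eq_bot (hW : IsFree W) (a : ZMod p) : dser W (2 ^ (p - 1) - 1) a = ⊥ := by
  have hp1 := hp.out.one_lt
  refine le_bot_iff.mp ((dser_le_gen (p - 1) (by omega) W hW a).trans ?_)
  rw [gen, AddSubgroup.closure_le]
  intro x hx
  exfalso
  induction hx with
  | @base b _ hb _ => have := b.val_lt; omega
  | step _ _ _ ih => exact ih

/-! ### The class of a solvable ring -/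

/-- Iterated right bracket with a list of homogeneous elements. -/
def fold (u : M) (l : List (ZMod p × M)) : M := l.foldl (fun v d => ⁅v, d.2⁆) u

/-- Subset sums of the degrees. -/
def sums : List (ZMod p × M) → Finset (ZMod p)
  | [] => {0}
  | d :: l => sums l ∪ (sums l).image (d.1 + ·)

theorem fold_add (l : List (ZMod p × M)) : ∀ u v : M, fold (u + v) l = fold u l + fold v l := by
  induction l with
  | nil => exact fun u v => rfl
  | cons d l ih => exact fun u v => by simp only [fold, List.foldl_cons, add_lie]; exact ih _ _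

theorem fold_neg (l : List (ZMod p × M)) : ∀ u : M, fold (-u) l = - fold u l := by
  induction l with
  | nil => exact fun u => rfl
  | cons d l ih => exact fun u => by simp only [fold, List.foldl_cons, neg_lie]; exact ih _

theorem fold_zero (l : List (ZMod p × M)) : fold (0 : M) l = 0 := by
  induction l with
  | nil => rfl
  | cons d l ih => simp only [fold, List.foldl_cons, zero_lie]; exact ih

/-- The degree of a list. -/
def deg (l : List (ZMod p × M)) : ZMod p := (l.map Prod.fst).sum

theorem sums_card (l : List (ZMod p × M)) (h : ∀ d ∈ l, d.1 ≠ 0) :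
    min p (l.length + 1) ≤ (sums l).card := by
  induction l with
  | nil => simp [sums]
  | cons d l ih =>
    have ih' := ih (fun e he => h e (List.mem_cons_of_mem _ he))
    have hle : (sums l).card ≤ (sums (d :: l)).card := Finset.card_le_card Finset.subset_union_left
    by_cases hu : sums l = Finset.univ
    · rw [hu, Finset.card_univ, ZMod.card] at hle
      omega
    · have hlt : (sums l).card < (sums (d :: l)).card := by
        refine Finset.card_lt_card ⟨Finset.subset_union_left, fun hsub => hu ?_⟩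
        have hclo : ∀ x ∈ sums l, d.1 + x ∈ sums l := fun x hx =>
          hsub (Finset.mem_union_right _ (Finset.mem_image_of_mem _ hx))
        obtain ⟨x, hx⟩ : (sums l).Nonempty := Finset.card_pos.mp (by have := hp.out.pos; omega)
        have hn : ∀ n : ℕ, (n : ZMod p) * d.1 + x ∈ sums l := by
          intro n
          induction n with
          | zero => simpa using hx
          | succ n ihn =>
            rw [show ((n + 1 : ℕ) : ZMod p) * d.1 + x = d.1 + ((n : ZMod p) * d.1 + x) by push_cast; ring]
            exact hclo _ ihn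
        rw [Finset.eq_univ_iff_forall]
        intro y
        have := hn (((y - x) / d.1).val)
        rwa [ZMod.natCast_zmod_val, div_mul_cancel₀ _ (h d (List.mem_cons_self ..)), sub_add_cancel] at this
      simp only [List.length_cons]
      omega

variable {J I K : ZMod p → AddSubgroup M}

theorem fold_mem_base (hJW : ∀ {a b : ZMod p} {u x : M}, u ∈ J a → x ∈ W b → ⁅u, x⁆ ∈ J (a + b))
    (l : List (ZMod p × M)) (hl : ∀ d ∈ l, d.2 ∈ W d.1) :
    ∀ {a : ZMod p} {u : M}, u ∈ J a → fold u l ∈ J (a + deg l) := by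
  induction l with
  | nil => intro a u hu; simpa [fold, deg] using hu
  | cons d l ih =>
    intro a u hu
    have := ih (fun e he => hl e (List.mem_cons_of_mem _ he)) (hJW hu (hl d (List.mem_cons_self ..)))
    rw [show deg (d :: l) = d.1 + deg l from List.sum_cons, ← add_assoc]
    exact this

theorem fold_comm (hJW : ∀ {a b : ZMod p} {u x : M}, u ∈ J a → x ∈ W b → ⁅u, x⁆ ∈ J (a + b))
    (hKW : ∀ {a b : ZMod p} {u x : M}, u ∈ K a → x ∈ W b → ⁅u, x⁆ ∈ K (a + b))
    (hJI : ∀ {a b : ZMod p} {u x : M}, u ∈ J a → x ∈ I b → ⁅u, x⁆ ∈ K (a + b))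
    (hWW : ∀ {a b : ZMod p} {u x : M}, u ∈ W a → x ∈ W b → ⁅u, x⁆ ∈ I (a + b))
    (l : List (ZMod p × M)) (hl : ∀ d ∈ l, d.2 ∈ W d.1) :
    ∀ {a b : ZMod p} {u x : M}, u ∈ J a → x ∈ W b →
      fold ⁅u, x⁆ l - ⁅fold u l, x⁆ ∈ K (a + b + deg l) := by
  induction l with
  | nil => intro a b u x _ _; simp [fold]
  | cons d l ih =>
    intro a b u x hu hx
    have hd := hl d (List.mem_cons_self ..)
    have hl' : ∀ e ∈ l, e.2 ∈ W e.1 := fun e he => hl e (List.mem_cons_of_mem _ he)
    have e : ⁅⁅u, x⁆, d.2⁆ = ⁅⁅u, d.2⁆, x⁆ + ⁅u, ⁅x, d.2⁆⁆ := by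
      rw [leibniz_lie u x d.2, ← lie_skew x ⁅u, d.2⁆]; abel
    show fold ⁅⁅u, x⁆, d.2⁆ l - ⁅fold ⁅u, d.2⁆ l, x⁆ ∈ K (a + b + (d.1 + deg l))
    rw [e, fold_add, add_sub_right_comm]
    refine add_mem ?_ ?_
    · rw [show a + b + (d.1 + deg l) = a + d.1 + b + deg l by ring]
      exact ih hl' (hJW hu hd) hx
    · rw [show a + b + (d.1 + deg l) = a + (b + d.1) + deg l by ring]
      exact fold_mem_base hKW l hl' (hJI hu (hWW hx hd))

theorem fold_mem (hJ0 : J 0 = ⊥)
    (hJW : ∀ {a b : ZMod p} {u x : M}, u ∈ J a → x ∈ W b → ⁅u, x⁆ ∈ J (a + b))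
    (hKW : ∀ {a b : ZMod p} {u x : M}, u ∈ K a → x ∈ W b → ⁅u, x⁆ ∈ K (a + b))
    (hJI : ∀ {a b : ZMod p} {u x : M}, u ∈ J a → x ∈ I b → ⁅u, x⁆ ∈ K (a + b))
    (hWW : ∀ {a b : ZMod p} {u x : M}, u ∈ W a → x ∈ W b → ⁅u, x⁆ ∈ I (a + b))
    (l : List (ZMod p × M)) (hl : ∀ d ∈ l, d.2 ∈ W d.1) :
    ∀ {a : ZMod p} {u : M}, u ∈ J a → -a ∈ sums l → fold u l ∈ K (a + deg l) := by
  induction l with
  | nil =>
    intro a u hu ha
    rw [sums, Finset.mem_singleton, neg_eq_zero] at ha
    subst ha
    rw [hJ0] at hu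
    rw [AddSubgroup.mem_bot.mp hu, fold_zero]
    exact zero_mem _
  | cons d l ih =>
    intro a u hu ha
    have hd := hl d (List.mem_cons_self ..)
    have hl' : ∀ e ∈ l, e.2 ∈ W e.1 := fun e he => hl e (List.mem_cons_of_mem _ he)
    show fold ⁅u, d.2⁆ l ∈ K (a + (d.1 + deg l))
    rw [← add_assoc]
    rcases Finset.mem_union.mp ha with ha | ha
    · have h1 := fold_comm hJW hKW hJI hWW l hl' hu hd
      have h2 := hKW (ih hl' hu ha) hd
      rw [show a + deg l + d.1 = a + d.1 + deg l by ring] at h2
      simpa using add_mem h1 h2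
    · obtain ⟨t, ht, hta⟩ := Finset.mem_image.mp ha
      refine ih hl' (hJW hu hd) ?_
      rwa [show -(a + d.1) = t by linear_combination -hta]

theorem lser_mul (hW : IsFree W) (j : ℕ) : ∀ {a b : ZMod p} {u x : M}, u ∈ lser (dser W 1) j a →
    x ∈ W b → ⁅u, x⁆ ∈ lser (dser W 1) j (a + b) := by
  induction j with
  | zero => exact fun hu hx => mem_fbr (dser_le hW 1 _ hu) hx
  | succ j ih =>
    intro a b u x hu hx
    change u ∈ AddSubgroup.closure _ at hu
    induction hu using AddSubgroup.closure_induction with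
    | mem u hu =>
      obtain ⟨i, k, y, z, rfl, hy, hz, rfl⟩ := hu
      have e : ⁅⁅y, z⁆, x⁆ = ⁅⁅y, x⁆, z⁆ + ⁅y, ⁅z, x⁆⁆ := by
        rw [leibniz_lie y z x, ← lie_skew z ⁅y, x⁆]; abel
      rw [e]
      refine add_mem ?_ ?_
      · rw [show i + k + b = i + b + k by ring]; exact mem_fbr (ih hy hx) hz
      · rw [add_assoc]; exact mem_fbr hy (mem_fbr (dser_le hW 1 _ hz) hx)
    | zero => simp
    | add x y _ _ h1 h2 => rw [add_lie]; exact add_mem h1 h2
    | neg x _ h => rw [neg_lie]; exact neg_mem h

/-- The bound on the class in terms of the derived length. -/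
def classBound (p : ℕ) : ℕ → ℕ
  | 0 => 0
  | s + 1 => (p - 1) * classBound p s + 1

theorem classBound_eq (p s : ℕ) : classBound p s = ∑ i ∈ Finset.range s, (p - 1) ^ i := by
  induction s with
  | zero => rfl
  | succ s ih => rw [classBound, ih, geom_sum_succ]

theorem lser_eq_bot (s : ℕ) : ∀ (W : ZMod p → AddSubgroup M), IsFree W → (∀ a, dser W s a = ⊥) →
    ∀ a, lser W (classBound p s) a = ⊥ := by
  induction s with
  | zero => exact fun W _ h a => h a
  | succ s ih =>
    intro W hW hs
    set I := dser W 1 with hI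
    have hIfree : IsFree I := isFree_dser hW 1
    have hIc : ∀ a, lser I (classBound p s) a = ⊥ := ih I hIfree (fun a => by
      rw [hI, dser_add, add_comm]; exact hs a)
    have key : ∀ j, ∀ a, lser W (1 + (p - 1) * j) a ≤ lser I j a := by
      intro j
      induction j with
      | zero => intro a; exact le_rfl
      | succ j ihj =>
        intro a
        set n := 1 + (p - 1) * j
        have hstep : ∀ m, m ≤ p - 1 → ∀ a, ∀ x ∈ lser W (n + m) a, ∀ l : List (ZMod p × M),
            (∀ d ∈ l, d.2 ∈ W d.1 ∧ d.1 ≠ 0) → l.length = p - 1 - m →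
            fold x l ∈ lser I (j + 1) (a + deg l) := by
          intro m
          induction m with
          | zero =>
            intro _ a x hx l hl hlen
            refine fold_mem (W := W) (J := lser I j) (I := I) (K := lser I (j + 1))
              (le_bot_iff.mp ((lser_le hIfree j 0).trans hIfree.zero.le))
              (lser_mul hW j) (lser_mul hW (j + 1)) (fun hu hv => mem_fbr hu hv) (fun hu hv => mem_fbr hu hv)
              l (fun d hd => (hl d hd).1) (ihj a hx) ?_
            have hc := sums_card l (fun d hd => (hl d hd).2)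
            rw [hlen] at hc
            have hpp := hp.out.pos
            have : sums l = Finset.univ := Finset.eq_univ_of_card _ (le_antisymm (Finset.card_le_univ _)
              (by rw [ZMod.card]; omega))
            rw [this]
            exact Finset.mem_univ _
          | succ m ihm =>
            intro hm a x hx l hl hlen
            change x ∈ AddSubgroup.closure _ at hx
            induction hx using AddSubgroup.closure_induction with
            | mem x hx =>
              obtain ⟨i, k, y, z, rfl, hy, hz, rfl⟩ := hx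
              by_cases hk : k = 0
              · rw [hk, hW.zero] at hz
                rw [AddSubgroup.mem_bot.mp hz, lie_zero, fold_zero]
                exact zero_mem _
              have := ihm (by omega) i y hy ((k, z) :: l) (by
                intro d hd
                rcases List.mem_cons.mp hd with rfl | hd
                · exact ⟨hz, hk⟩
                · exact hl d hd) (by simp only [List.length_cons]; omega)
              rw [show deg ((k, z) :: l) = k + deg l from List.sum_cons, ← add_assoc] at this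
              exact this
            | zero => rw [fold_zero]; exact zero_mem _
            | add x y _ _ h1 h2 => rw [fold_add]; exact add_mem h1 h2
            | neg x _ h => rw [fold_neg]; exact neg_mem h
        intro x hx
        rw [show 1 + (p - 1) * (j + 1) = n + (p - 1) by ring] at hx
        simpa [fold, deg] using hstep (p - 1) le_rfl a x hx [] (by simp) (by simp)
    intro a
    rw [classBound, add_comm, eq_bot_iff, ← hIc a]
    exact key _ a

/-- For `p = 3` the class is at most two. -/
theorem lser_two_eq_bot {W : ZMod 3 → AddSubgroup M} (hW : IsFree W) (a : ZMod 3) : lser W 2 a = ⊥ := by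
  have h0 : ∀ {i j : ZMod 3} {x y : M}, x ∈ W i → y ∈ W j → i + j = 0 → ⁅x, y⁆ = 0 := by
    intro i j x y hx hy hij
    have := hW.mul hx hy
    rwa [hij, hW.zero, AddSubgroup.mem_bot] at this
  have hz : ∀ {i : ZMod 3} {x : M}, x ∈ W i → i = 0 → x = 0 := by
    intro i x hx hi
    rwa [hi, hW.zero, AddSubgroup.mem_bot] at hx
  rw [eq_bot_iff]
  show fbr (fbr W W) W a ≤ ⊥
  rw [fbr, AddSubgroup.closure_le]
  rintro _ ⟨i, k, w, z, -, hw, hz', rfl⟩
  rw [SetLike.mem_coe, AddSubgroup.mem_bot]
  induction hw using AddSubgroup.closure_induction with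
  | mem w hw =>
    obtain ⟨i, j, x, y, rfl, hx, hy, rfl⟩ := hw
    have h3 : ∀ i j k : ZMod 3, i = 0 ∨ j = 0 ∨ k = 0 ∨ i + j = 0 ∨ i + j + k = 0 ∨ (i + k = 0 ∧ j + k = 0) := by
      decide
    rcases h3 i j k with h | h | h | h | h | ⟨h1, h2⟩
    · rw [hz hx h, zero_lie, zero_lie]
    · rw [hz hy h, lie_zero, zero_lie]
    · rw [hz hz' h, lie_zero]
    · rw [h0 hx hy h, zero_lie]
    · exact h0 (hW.mul hx hy) hz' h
    · have e : ⁅⁅x, y⁆, z⁆ = ⁅⁅x, z⁆, y⁆ + ⁅x, ⁅y, z⁆⁆ := by
        rw [leibniz_lie x y z, ← lie_skew y ⁅x, z⁆]; abel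
      rw [e, h0 hx hz' h1, h0 hy hz' h2, zero_lie, lie_zero, add_zero]
  | zero => simp
  | add x y _ _ h1 h2 => rw [add_lie, h1, h2, add_zero]
  | neg x _ h => rw [neg_lie, h, neg_zero]

end Cfsg.Agent.HigmanFPF
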