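import Mathlib
import Cfsg.Agent.S4206

/-!
The Lie ring associated to the lower central series of a finite group.
-/

set_option autoImplicit false
set_option linter.unusedSectionVars false

namespace Cfsg.Agent.HigmanFPF

open Subgroup DirectSum
open scoped commutatorElement

variable {G : Type*} [Group G] [Finite G]

/-- The lower central series of the whole group. -/
abbrev lcs (G : Type*) [Group G] (n : ℕ) : Subgroup G := (⊤ : Subgroup G).lowerCentralSeries n

theorem lcs_antitone {m n : ℕ} (h : m ≤ n) : lcs G n ≤ lcs G m := Subgroup.lowerCentralSeries_antitone _ h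

theorem comm_mem {i j : ℕ} {x y : G} (hx : x ∈ lcs G i) (hy : y ∈ lcs G j) :
    ⁅x, y⁆ ∈ lcs G (i + j + 1) :=
  S4206.result (lcs G) (fun i => inferInstance) (fun i => lcs_antitone (Nat.le_succ i)) ⊤
    (fun i => by rw [← Subgroup.lowerCentralSeries_succ]) i j (Subgroup.commutator_mem_commutator hx hy)

theorem comm_top {n : ℕ} {x : G} (hx : x ∈ lcs G n) (y : G) : ⁅x, y⁆ ∈ lcs G (n + 1) := by
  simpa using comm_mem hx (show y ∈ lcs G 0 from Subgroup.mem_top y)

/-- The next term, inside a term of the series. -/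
abbrev nxt (G : Type*) [Group G] (n : ℕ) : Subgroup ↥(lcs G n) := (lcs G (n + 1)).subgroupOf (lcs G n)

/-- A factor of the lower central series. -/
abbrev Fac (G : Type*) [Group G] (n : ℕ) : Type _ := ↥(lcs G n) ⧸ nxt G n

instance instCommFac (n : ℕ) : CommGroup (Fac G n) where
  mul_comm := by
    intro a b
    induction a using QuotientGroup.induction_on with
    | H x =>
      induction b using QuotientGroup.induction_on with
      | H y =>
        rw [← QuotientGroup.mk_mul, ← QuotientGroup.mk_mul, QuotientGroup.eq, mem_subgroupOf]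
        have h : ⁅(y : G)⁻¹, (x : G)⁻¹⁆ ∈ lcs G (n + 1) :=
          lcs_antitone (by omega) (comm_mem ((lcs G n).inv_mem y.2) ((lcs G n).inv_mem x.2))
        simpa [commutatorElement_def, mul_assoc] using h

/-- The Lie ring of the group. -/
abbrev GrLie (G : Type*) [Group G] [Finite G] : Type _ := ⨁ n : ℕ, Additive (Fac G n)

open Classical in
/-- The image of an element of the `n`-th term in degree `n`; zero for other elements. -/
noncomputable def io (n : ℕ) (x : G) : GrLie G :=
  if h : x ∈ lcs G n then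
    DirectSum.of (fun n => Additive (Fac G n)) n (Additive.ofMul ((⟨x, h⟩ : lcs G n) : Fac G n))
  else 0

theorem io_of_mem {n : ℕ} {x : G} (h : x ∈ lcs G n) :
    io n x = DirectSum.of (fun n => Additive (Fac G n)) n (Additive.ofMul ((⟨x, h⟩ : lcs G n) : Fac G n)) :=
  dif_pos h

theorem io_mul {n : ℕ} {x y : G} (hx : x ∈ lcs G n) (hy : y ∈ lcs G n) : io n (x * y) = io n x + io n y := by
  rw [io_of_mem hx, io_of_mem hy, io_of_mem (mul_mem hx hy), ← map_add]
  rfl

theorem io_eq_zero {n : ℕ} {x : G} (hx : x ∈ lcs G (n + 1)) : io n x = 0 := by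
  rw [io_of_mem (lcs_antitone (Nat.le_succ n) hx), (QuotientGroup.eq_one_iff _).mpr (mem_subgroupOf.mpr hx)]
  exact map_zero _

theorem mem_of_io_eq_zero {n : ℕ} {x : G} (hx : x ∈ lcs G n) (h : io n x = 0) : x ∈ lcs G (n + 1) := by
  rw [io_of_mem hx, ← map_zero (DirectSum.of (fun n => Additive (Fac G n)) n)] at h
  exact mem_subgroupOf.mp ((QuotientGroup.eq_one_iff _).mp (congrArg Additive.toMul (DirectSum.of_injective n h)))

theorem io_one (n : ℕ) : io n (1 : G) = 0 := io_eq_zero (one_mem _)

theorem io_inv {n : ℕ} {x : G} (hx : x ∈ lcs G n) : io n x⁻¹ = - io n x := by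
  refine eq_neg_of_add_eq_zero_left ?_
  rw [← io_mul (inv_mem hx) hx, inv_mul_cancel, io_one]

theorem io_conj {n : ℕ} {x : G} (hx : x ∈ lcs G n) (g : G) : io n (g * x * g⁻¹) = io n x := by
  have h : g * x * g⁻¹ * x⁻¹ ∈ lcs G (n + 1) := by
    have h := (lcs G (n + 1)).inv_mem (comm_top hx g)
    simpa [commutatorElement_def, mul_assoc] using h
  rw [show g * x * g⁻¹ = g * x * g⁻¹ * x⁻¹ * x by group,
    io_mul (lcs_antitone (Nat.le_succ n) h) hx, io_eq_zero h, zero_add]

theorem io_bracket_mul_left {i j : ℕ} {a b c : G} (ha : a ∈ lcs G i) (hb : b ∈ lcs G i) (hc : c ∈ lcs G j) :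
    io (i + j + 1) ⁅a * b, c⁆ = io (i + j + 1) ⁅a, c⁆ + io (i + j + 1) ⁅b, c⁆ := by
  have h := comm_mem hb hc
  rw [show ⁅a * b, c⁆ = a * ⁅b, c⁆ * a⁻¹ * ⁅a, c⁆ by simp only [commutatorElement_def]; group,
    io_mul ((inferInstance : (lcs G (i + j + 1)).Normal).conj_mem _ h a) (comm_mem ha hc), io_conj h,
    add_comm]

theorem io_swap {i j : ℕ} {a b : G} (ha : a ∈ lcs G i) (hb : b ∈ lcs G j) :
    io (i + j + 1) ⁅a, b⁆ = - io (i + j + 1) ⁅b, a⁆ := by
  rw [← commutatorElement_inv b a, io_inv]
  exact (show j + i + 1 = i + j + 1 by omega) ▸ comm_mem hb ha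

theorem io_bracket_mul_right {i j : ℕ} {a b c : G} (ha : a ∈ lcs G i) (hb : b ∈ lcs G j) (hc : c ∈ lcs G j) :
    io (i + j + 1) ⁅a, b * c⁆ = io (i + j + 1) ⁅a, b⁆ + io (i + j + 1) ⁅a, c⁆ := by
  rw [io_swap ha (mul_mem hb hc), io_swap ha hb, io_swap ha hc, show i + j + 1 = j + i + 1 by omega,
    io_bracket_mul_left hb hc ha, neg_add]

theorem io_bracket_zero_left {i j : ℕ} {a c : G} (ha : a ∈ lcs G (i + 1)) (hc : c ∈ lcs G j) :
    io (i + j + 1) ⁅a, c⁆ = 0 :=
  io_eq_zero ((show i + 1 + j + 1 = i + j + 1 + 1 by omega) ▸ comm_mem ha hc)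

theorem io_bracket_zero_right {i j : ℕ} {a c : G} (ha : a ∈ lcs G i) (hc : c ∈ lcs G (j + 1)) :
    io (i + j + 1) ⁅a, c⁆ = 0 :=
  io_eq_zero ((show i + (j + 1) + 1 = i + j + 1 + 1 by omega) ▸ comm_mem ha hc)

/-- The bracket of two homogeneous components, as a function. -/
noncomputable def pairFun (i j : ℕ) (a : Fac G i) (b : Fac G j) : GrLie G :=
  Quotient.liftOn₂' a b (fun x y => io (i + j + 1) ⁅(x : G), (y : G)⁆) (by
    intro x y x' y' hx hy
    rw [QuotientGroup.leftRel_apply, mem_subgroupOf] at hx hy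
    simp only [Subgroup.coe_mul, Subgroup.coe_inv] at hx hy
    have ex : io (i + j + 1) ⁅(x' : G), (y : G)⁆ = io (i + j + 1) ⁅(x : G), (y : G)⁆ := by
      have h := io_bracket_mul_left x.2 (lcs_antitone (Nat.le_succ i) hx) y.2
      rw [mul_inv_cancel_left, io_bracket_zero_left hx y.2, add_zero] at h
      exact h
    have ey : io (i + j + 1) ⁅(x' : G), (y' : G)⁆ = io (i + j + 1) ⁅(x' : G), (y : G)⁆ := by
      have h := io_bracket_mul_right x'.2 y.2 (lcs_antitone (Nat.le_succ j) hy)
      rw [mul_inv_cancel_left, io_bracket_zero_right x'.2 hy, add_zero] at h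
      exact h
    rw [ey, ex])

theorem pairFun_mk (i j : ℕ) (x : lcs G i) (y : lcs G j) :
    pairFun i j (x : Fac G i) (y : Fac G j) = io (i + j + 1) ⁅(x : G), (y : G)⁆ := rfl

/-- The bracket of two homogeneous components. -/
noncomputable def pair (i j : ℕ) : Additive (Fac G i) →+ Additive (Fac G j) →+ GrLie G :=
  AddMonoidHom.mk' (fun a => AddMonoidHom.mk' (fun b => pairFun i j a.toMul b.toMul) (by
    intro b b'
    obtain ⟨x, hx⟩ := QuotientGroup.mk_surjective a.toMul
    obtain ⟨y, hy⟩ := QuotientGroup.mk_surjective b.toMul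
    obtain ⟨y', hy'⟩ := QuotientGroup.mk_surjective b'.toMul
    rw [toMul_add, ← hx, ← hy, ← hy', ← QuotientGroup.mk_mul, pairFun_mk, pairFun_mk, pairFun_mk]
    exact io_bracket_mul_right x.2 y.2 y'.2)) (by
    intro a a'
    refine AddMonoidHom.ext fun b => ?_
    obtain ⟨x, hx⟩ := QuotientGroup.mk_surjective a.toMul
    obtain ⟨x', hx'⟩ := QuotientGroup.mk_surjective a'.toMul
    obtain ⟨y, hy⟩ := QuotientGroup.mk_surjective b.toMul
    simp only [AddMonoidHom.mk'_apply, AddMonoidHom.add_apply, toMul_add, ← hx, ← hx', ← hy,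
      ← QuotientGroup.mk_mul, pairFun_mk]
    exact io_bracket_mul_left x.2 x'.2 y.2)

/-- The bracket of the Lie ring. -/
noncomputable def brk : GrLie G →+ GrLie G →+ GrLie G :=
  DirectSum.toAddMonoid fun i => (DirectSum.toAddMonoid fun j => (pair i j).flip).flip

theorem brk_io {i j : ℕ} {x y : G} (hx : x ∈ lcs G i) (hy : y ∈ lcs G j) :
    brk (io i x) (io j y) = io (i + j + 1) ⁅x, y⁆ := by
  rw [io_of_mem hx, io_of_mem hy, brk, DirectSum.toAddMonoid_of, AddMonoidHom.flip_apply,
    DirectSum.toAddMonoid_of, AddMonoidHom.flip_apply]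
  rfl

/-- Induction over sums of homogeneous elements. -/
theorem gr_induction {P : GrLie G → Prop} (x : GrLie G) (h0 : P 0)
    (hio : ∀ n g, g ∈ lcs G n → P (io n g)) (hadd : ∀ x y, P x → P y → P (x + y)) : P x := by
  induction x using DirectSum.induction_on with
  | zero => exact h0
  | of n a =>
    obtain ⟨g, hg⟩ := QuotientGroup.mk_surjective a.toMul
    have := hio n g g.2
    rwa [io_of_mem g.2, show ((⟨(g : G), g.2⟩ : lcs G n) : Fac G n) = a.toMul from hg, ofMul_toMul] at this
  | add x y hx hy => exact hadd x y hx hy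

theorem io_jacobi {i j k : ℕ} {a b c : G} (ha : a ∈ lcs G i) (hb : b ∈ lcs G j) (hc : c ∈ lcs G k) :
    io (i + j + k + 2) ⁅⁅a, b⁆, c⁆ + io (i + j + k + 2) ⁅⁅b, c⁆, a⁆ + io (i + j + k + 2) ⁅⁅c, a⁆, b⁆ = 0 := by
  have one : ∀ {i j k : ℕ} {a b c : G}, a ∈ lcs G i → b ∈ lcs G j → c ∈ lcs G k →
      ⁅⁅a, b⁆, b * c * b⁻¹⁆ ∈ lcs G (i + j + k + 2) ∧
      io (i + j + k + 2) ⁅⁅a, b⁆, b * c * b⁻¹⁆ = io (i + j + k + 2) ⁅⁅a, b⁆, c⁆ := by
    intro i j k a b c ha hb hc
    have hab := comm_mem ha hb
    have hcc := (inferInstance : (lcs G k).Normal).conj_mem _ hc b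
    rw [show i + j + k + 2 = (i + j + 1) + k + 1 by omega]
    refine ⟨comm_mem hab hcc, ?_⟩
    have hbc : ⁅b, c⁆ ∈ lcs G (k + 1) := lcs_antitone (by omega) (comm_mem hb hc)
    rw [show b * c * b⁻¹ = ⁅b, c⁆ * c by simp only [commutatorElement_def]; group,
      io_bracket_mul_right hab (lcs_antitone (Nat.le_succ k) hbc) hc, io_bracket_zero_right hab hbc, zero_add]
  obtain ⟨m1, e1⟩ := one ha hb hc
  obtain ⟨m2, e2⟩ := one hb hc ha
  obtain ⟨m3, e3⟩ := one hc ha hb
  rw [show j + k + i + 2 = i + j + k + 2 by omega] at m2 e2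
  rw [show k + i + j + 2 = i + j + k + 2 by omega] at m3 e3
  rw [← e1, ← e2, ← e3, ← io_mul m1 m2, ← io_mul (mul_mem m1 m2) m3]
  rw [show ⁅⁅a, b⁆, b * c * b⁻¹⁆ * ⁅⁅b, c⁆, c * a * c⁻¹⁆ * ⁅⁅c, a⁆, a * b * a⁻¹⁆ = 1 by
    simp only [commutatorElement_def]; group, io_one]

theorem brk_swap (x y : GrLie G) : brk x y = - brk y x := by
  induction x using gr_induction with
  | h0 => simp
  | hio i a ha =>
    induction y using gr_induction with
    | h0 => simp
    | hio j b hb =>
      rw [brk_io ha hb, brk_io hb ha, io_swap ha hb, show j + i + 1 = i + j + 1 by omega]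
    | hadd x y hx hy => simp only [map_add, AddMonoidHom.add_apply, hx, hy, neg_add]
  | hadd x x' hx hx' => simp only [map_add, AddMonoidHom.add_apply, hx, hx', neg_add]

theorem brk_self (x : GrLie G) : brk x x = 0 := by
  induction x using gr_induction with
  | h0 => simp
  | hio i a ha => rw [brk_io ha ha, commutatorElement_self, io_one]
  | hadd x y hx hy =>
    simp only [map_add, AddMonoidHom.add_apply, hx, hy, zero_add, add_zero]
    rw [brk_swap x y]; abel

theorem brk_jacobi (x y z : GrLie G) :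
    brk (brk x y) z + brk (brk y z) x + brk (brk z x) y = 0 := by
  induction x using gr_induction with
  | h0 => simp
  | hio i a ha =>
    induction y using gr_induction with
    | h0 => simp
    | hio j b hb =>
      induction z using gr_induction with
      | h0 => simp
      | hio k c hc =>
        rw [brk_io ha hb, brk_io hb hc, brk_io hc ha, brk_io (comm_mem ha hb) hc,
          brk_io (comm_mem hb hc) ha, brk_io (comm_mem hc ha) hb,
          show i + j + 1 + k + 1 = i + j + k + 2 by omega,
          show j + k + 1 + i + 1 = i + j + k + 2 by omega,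
          show k + i + 1 + j + 1 = i + j + k + 2 by omega]
        exact io_jacobi ha hb hc
      | hadd z z' hz hz' =>
        simp only [map_add, AddMonoidHom.add_apply]
        calc _ = (brk (brk (io i a) (io j b)) z + brk (brk (io j b) z) (io i a) + brk (brk z (io i a)) (io j b))
            + (brk (brk (io i a) (io j b)) z' + brk (brk (io j b) z') (io i a) + brk (brk z' (io i a)) (io j b)) := by
              abel
          _ = 0 := by rw [hz, hz', add_zero]
    | hadd y y' hy hy' =>
      simp only [map_add, AddMonoidHom.add_apply]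
      calc _ = (brk (brk (io i a) y) z + brk (brk y z) (io i a) + brk (brk z (io i a)) y)
          + (brk (brk (io i a) y') z + brk (brk y' z) (io i a) + brk (brk z (io i a)) y') := by abel
        _ = 0 := by rw [hy, hy', add_zero]
  | hadd x x' hx hx' =>
    simp only [map_add, AddMonoidHom.add_apply]
    calc _ = (brk (brk x y) z + brk (brk y z) x + brk (brk z x) y)
        + (brk (brk x' y) z + brk (brk y z) x' + brk (brk z x') y) := by abel
      _ = 0 := by rw [hx, hx', add_zero]

noncomputable instance instLieRingGr : LieRing (GrLie G) where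
  bracket x y := brk x y
  add_lie x y z := by simp only [map_add, AddMonoidHom.add_apply]
  lie_add x y z := by simp only [map_add]
  lie_self := brk_self
  leibniz_lie x y z := by
    have h := brk_jacobi x y z
    rw [brk_swap (brk y z) x, brk_swap z x, map_neg, AddMonoidHom.neg_apply, brk_swap (brk x z) y] at h
    show brk x (brk y z) = brk (brk x y) z + brk y (brk x z)
    linear_combination (norm := abel) -h

theorem lie_io {i j : ℕ} {x y : G} (hx : x ∈ lcs G i) (hy : y ∈ lcs G j) :
    ⁅io i x, io j y⁆ = io (i + j + 1) ⁅x, y⁆ := brk_io hx hy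

/-! ### Functoriality for automorphisms -/

theorem map_mem_lcs (α : MulAut G) {n : ℕ} {x : G} (hx : x ∈ lcs G n) : α x ∈ lcs G n :=
  Subgroup.lowerCentralSeries.map α.toMonoidHom n ⟨x, hx, rfl⟩ |> fun h => h

/-- The map on one factor induced by an automorphism. -/
noncomputable def facMap (α : MulAut G) (n : ℕ) : Fac G n →* Fac G n :=
  QuotientGroup.map _ _ (MonoidHom.mk' (fun x : lcs G n => (⟨α x, map_mem_lcs α x.2⟩ : lcs G n)) fun x y => Subtype.ext (map_mul α (x : G) y))
    (fun _ hx => show _ ∈ (lcs G (n + 1)).subgroupOf (lcs G n) from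
      mem_subgroupOf.mpr (map_mem_lcs α (mem_subgroupOf.mp hx)))

/-- The endomorphism of the Lie ring induced by an automorphism. -/
noncomputable def grMap (α : MulAut G) : GrLie G →+ GrLie G :=
  DirectSum.toAddMonoid fun n => (DirectSum.of (fun n => Additive (Fac G n)) n).comp (facMap α n).toAdditive

theorem grMap_io (α : MulAut G) {n : ℕ} {x : G} (hx : x ∈ lcs G n) : grMap α (io n x) = io n (α x) := by
  rw [io_of_mem hx, io_of_mem (map_mem_lcs α hx), grMap, DirectSum.toAddMonoid_of]
  rfl

theorem grMap_lie (α : MulAut G) (x y : GrLie G) : grMap α ⁅x, y⁆ = ⁅grMap α x, grMap α y⁆ := by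
  induction x using gr_induction with
  | h0 => simp
  | hio i a ha =>
    induction y using gr_induction with
    | h0 => simp
    | hio j b hb =>
      rw [lie_io ha hb, grMap_io α (comm_mem ha hb), grMap_io α ha, grMap_io α hb,
        lie_io (map_mem_lcs α ha) (map_mem_lcs α hb), map_commutatorElement]
    | hadd x y hx hy => simp only [lie_add, map_add, hx, hy]
  | hadd x x' hx hx' => simp only [add_lie, map_add, hx, hx']

/-- An automorphism without fixed points fixes no coset of an invariant subgroup. -/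
theorem mem_of_fixed_mod (α : MulAut G) (hfpf : ∀ g : G, α g = g → g = 1) (N : Subgroup G)
    (hN : ∀ x ∈ N, α x ∈ N) {g : G} (hg : g⁻¹ * α g ∈ N) : g ∈ N := by
  have hinj : Function.Injective (fun m : N => (⟨(m : G)⁻¹ * α m, mul_mem (inv_mem m.2) (hN _ m.2)⟩ : N)) := by
    intro m m' h
    have h' : (m : G)⁻¹ * α m = (m' : G)⁻¹ * α m' := congrArg Subtype.val h
    have : α ((m : G) * (m' : G)⁻¹) = (m : G) * (m' : G)⁻¹ := by
      rw [map_mul, map_inv, show α (m : G) = (m : G) * ((m' : G)⁻¹ * α m') by rw [← h']; group]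
      group
    exact Subtype.ext (mul_inv_eq_one.mp (hfpf _ this))
  obtain ⟨m, hm⟩ := Finite.surjective_of_injective hinj ⟨_, hg⟩
  have h' : (m : G)⁻¹ * α m = g⁻¹ * α g := congrArg Subtype.val hm
  have : α (g * (m : G)⁻¹) = g * (m : G)⁻¹ := by
    rw [map_mul, map_inv, show α g = g * ((m : G)⁻¹ * α m) by rw [h']; group]
    group
  rw [mul_inv_eq_one.mp (hfpf _ this)]
  exact m.2

theorem grMap_fixed (α : MulAut G) (hfpf : ∀ g : G, α g = g → g = 1) (x : GrLie G)
    (hx : grMap α x = x) : x = 0 := by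
  refine DirectSum.ext_component ℤ fun n => ?_
  have hc : ∀ y : GrLie G, (grMap α y) n = Additive.ofMul (facMap α n (Additive.toMul (y n))) := by
    intro y
    induction y using DirectSum.induction_on with
    | zero => simp
    | of m a =>
      rw [grMap, DirectSum.toAddMonoid_of]
      by_cases h : m = n
      · subst h
        simp
      · simp [DirectSum.of_eq_of_ne _ _ _ (Ne.symm h)]
    | add y z hy hz => rw [map_add, DirectSum.add_apply, DirectSum.add_apply, hy, hz, toMul_add, map_mul, ofMul_mul]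
  have h := hc x
  rw [hx] at h
  obtain ⟨g, hg⟩ := QuotientGroup.mk_surjective (Additive.toMul (x n))
  have h' : ((⟨α g, map_mem_lcs α g.2⟩ : lcs G n) : Fac G n) = (g : Fac G n) := by
    show facMap α n (g : Fac G n) = _
    rw [hg]; exact (congrArg Additive.toMul h).symm
  have h1 : (g : G)⁻¹ * α g ∈ lcs G (n + 1) := by
    have := mem_subgroupOf.mp (QuotientGroup.eq.mp h'.symm)
    simpa using this
  have h2 : (g : Fac G n) = 1 :=
    (QuotientGroup.eq_one_iff _).mpr (mem_subgroupOf.mpr (mem_of_fixed_mod α hfpf _ (fun _ => map_mem_lcs α) h1))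
  show x n = (0 : GrLie G) n
  rw [DirectSum.zero_apply, ← ofMul_toMul (x n), ← hg, h2]
  rfl

theorem grMap_pow_io (α : MulAut G) (k : ℕ) {n : ℕ} {x : G} (hx : x ∈ lcs G n) :
    (grMap α)^[k] (io n x) = io n ((α ^ k) x) := by
  induction k with
  | zero => rfl
  | succ k ih =>
    rw [Function.iterate_succ_apply', ih, grMap_io α (map_mem_lcs _ hx), pow_succ']
    rfl

theorem card_nsmul_eq_zero (x : GrLie G) : Nat.card G • x = 0 := by
  induction x using gr_induction with
  | h0 => simp
  | hio n g hg =>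
    have : ∀ k : ℕ, io n (g ^ k) = k • io n g := by
      intro k
      induction k with
      | zero => simp [io_one]
      | succ k ih => rw [pow_succ, io_mul ((lcs G n).pow_mem hg k) hg, ih, succ_nsmul]
    rw [← this, pow_card_eq_one', io_one]
  | hadd x y hx hy => rw [smul_add, hx, hy, add_zero]

end Cfsg.Agent.HigmanFPF
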