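import Mathlib
import Cfsg.Agent.HigmanFPF.LieOfGroup
import Cfsg.Agent.HigmanFPF.Graded

/-!
Grading of the Lie ring of a group by the eigenvalues of an automorphism of prime order.
-/

set_option autoImplicit false
set_option linter.unusedSectionVars false

namespace Cfsg.Agent.HigmanFPF

open Subgroup TensorProduct
open scoped commutatorElement

variable {G : Type*} [Group G] [Finite G] {p : ℕ} [hp : Fact p.Prime]

/-- The ring of cyclotomic integers. -/
abbrev Cyc (p : ℕ) : Type := AdjoinRoot (Polynomial.cyclotomic p ℤ)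

/-- The extended Lie ring. -/
abbrev Ext (G : Type*) [Group G] [Finite G] (p : ℕ) : Type _ := Cyc p ⊗[ℤ] GrLie G

/-- A power of the primitive root, indexed by a residue. -/
noncomputable def root' (p : ℕ) (a : ZMod p) : Cyc p := AdjoinRoot.root (Polynomial.cyclotomic p ℤ) ^ a.val

theorem root_pow_p : AdjoinRoot.root (Polynomial.cyclotomic p ℤ) ^ p = 1 := by
  have h := congrArg (AdjoinRoot.mk (Polynomial.cyclotomic p ℤ)) (Polynomial.cyclotomic_prime_mul_X_sub_one ℤ p)
  rw [map_mul, AdjoinRoot.mk_self, zero_mul, map_sub, map_pow, AdjoinRoot.mk_X, map_one] at h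
  exact sub_eq_zero.mp h.symm

theorem root'_zero : root' p 0 = 1 := by
  rw [root', ZMod.val_zero, pow_zero]

theorem root'_add (a b : ZMod p) : root' p (a + b) = root' p a * root' p b := by
  rw [root', root', root', ← pow_add, ZMod.val_add, ← pow_eq_pow_mod _ root_pow_p]

theorem sum_root' {a : ZMod p} (ha : a ≠ 0) : ∑ k : ZMod p, root' p (a * k) = 0 := by
  refine (Equiv.sum_comp (Equiv.mulLeft₀ a ha) (fun k => root' p k)).trans ?_
  have h := congrArg (AdjoinRoot.mk (Polynomial.cyclotomic p ℤ)) (Polynomial.cyclotomic_prime ℤ p)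
  rw [AdjoinRoot.mk_self, map_sum] at h
  simp only [map_pow, AdjoinRoot.mk_X] at h
  rw [Finset.sum_range] at h
  rw [h]
  obtain ⟨q, rfl⟩ : ∃ q, p = q + 1 := ⟨p - 1, (Nat.succ_pred_eq_of_pos hp.out.pos).symm⟩
  rfl

theorem xlie_add (x y z : Ext G p) : ⁅x, y + z⁆ = ⁅x, y⁆ + ⁅x, z⁆ := lie_add x y z

theorem xadd_lie (x y z : Ext G p) : ⁅x + y, z⁆ = ⁅x, z⁆ + ⁅y, z⁆ := add_lie x y z

theorem xlie_zero (x : Ext G p) : ⁅x, (0 : Ext G p)⁆ = 0 := lie_zero x

theorem xzero_lie (x : Ext G p) : ⁅(0 : Ext G p), x⁆ = 0 := zero_lie x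

theorem xlie_smul (c : Cyc p) (x y : Ext G p) : ⁅x, c • y⁆ = c • ⁅x, y⁆ := lie_smul c x y

theorem xsmul_lie (c : Cyc p) (x y : Ext G p) : ⁅c • x, y⁆ = c • ⁅x, y⁆ := smul_lie c x y

variable (α : MulAut G)

/-- The automorphism on the extended Lie ring. -/
noncomputable def extMap (p : ℕ) : Ext G p →ₗ[Cyc p] Ext G p :=
  LinearMap.baseChange (Cyc p) (grMap α).toIntLinearMap

theorem extMap_tmul (c : Cyc p) (x : GrLie G) : extMap α p (c ⊗ₜ[ℤ] x) = c ⊗ₜ[ℤ] grMap α x := rfl

theorem extMap_lie (x y : Ext G p) : extMap α p ⁅x, y⁆ = ⁅extMap α p x, extMap α p y⁆ := by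
  induction x using TensorProduct.induction_on with
  | zero => simp only [xzero_lie, map_zero]
  | tmul a u =>
    induction y using TensorProduct.induction_on with
    | zero => simp only [xlie_zero, map_zero]
    | tmul b v =>
      rw [LieAlgebra.ExtendScalars.bracket_tmul, extMap_tmul, extMap_tmul, extMap_tmul,
        LieAlgebra.ExtendScalars.bracket_tmul, grMap_lie]
    | add y z hy hz => simp only [xlie_add, map_add, hy, hz]
  | add x z hx hz => simp only [xadd_lie, map_add, hx, hz]

/-- The eigenspace of a residue. -/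
noncomputable def eig (p : ℕ) (a : ZMod p) : AddSubgroup (Ext G p) where
  carrier := {x | extMap α p x = root' p a • x}
  add_mem' {x y} hx hy := by simp only [Set.mem_setOf_eq] at *; rw [map_add, hx, hy, smul_add]
  zero_mem' := by simp
  neg_mem' {x} hx := by simp only [Set.mem_setOf_eq] at *; rw [map_neg, hx, smul_neg]

theorem mem_eig {a : ZMod p} {x : Ext G p} : x ∈ eig α p a ↔ extMap α p x = root' p a • x := Iff.rfl

theorem grMap_iterate_p (hα : α ^ p = 1) (x : GrLie G) : (grMap α)^[p] x = x := by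
  induction x using gr_induction with
  | h0 => exact iterate_map_zero _ _
  | hio n g hg => rw [grMap_pow_io α p hg, hα]; rfl
  | hadd x y hx hy => rw [iterate_map_add, hx, hy]

/-- The projection to an eigenspace, times `p`. -/
noncomputable def proj (a : ZMod p) (x : Ext G p) : Ext G p :=
  ∑ k : ZMod p, root' p (-(a * k)) • (extMap α p)^[k.val] x

theorem extMap_iterate_tmul (n : ℕ) (c : Cyc p) (x : GrLie G) :
    (extMap α p)^[n] (c ⊗ₜ[ℤ] x) = c ⊗ₜ[ℤ] (grMap α)^[n] x := by
  induction n with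
  | zero => rfl
  | succ n ih => rw [Function.iterate_succ_apply', ih, extMap_tmul, Function.iterate_succ_apply']

theorem extMap_iterate_p (hα : α ^ p = 1) (x : Ext G p) : (extMap α p)^[p] x = x := by
  induction x using TensorProduct.induction_on with
  | zero => exact iterate_map_zero _ _
  | tmul c u => rw [extMap_iterate_tmul, grMap_iterate_p α hα]
  | add x y hx hy => rw [iterate_map_add, hx, hy]

theorem iterate_val_succ {T : Type*} (f : T → T) (h : ∀ x, f^[p] x = x) (k : ZMod p) (x : T) :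
    f (f^[k.val] x) = f^[(k + 1).val] x := by
  have hmod : ∀ n : ℕ, f^[n % p] x = f^[n] x := by
    intro n
    conv_rhs => rw [← Nat.mod_add_div n p, Function.iterate_add_apply]
    have hid : f^[p] = id := funext h
    rw [Function.iterate_mul, hid, Function.iterate_id, id]
  rw [ZMod.val_add, ZMod.val_one, hmod, Function.iterate_succ_apply']

theorem proj_mem (hα : α ^ p = 1) (a : ZMod p) (x : Ext G p) : proj α a x ∈ eig α p a := by
  rw [mem_eig, proj, map_sum, Finset.smul_sum]
  refine Fintype.sum_equiv (Equiv.addRight (1 : ZMod p)) _ _ fun k => ?_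
  rw [map_smul, Equiv.coe_addRight, smul_smul, ← root'_add,
    iterate_val_succ _ (extMap_iterate_p α hα)]
  congr 2
  ring

theorem sum_proj (x : Ext G p) : ∑ a : ZMod p, proj α a x = p • x := by
  simp only [proj]
  rw [Finset.sum_comm, Finset.sum_eq_single (0 : ZMod p)]
  · simp [root'_zero, ZMod.card]
  · intro k _ hk
    rw [← Finset.sum_smul, show (∑ a : ZMod p, root' p (-(a * k))) = 0 by
      rw [← sum_root' (neg_ne_zero.mpr hk)]
      exact Finset.sum_congr rfl fun a _ => by congr 1; ring, zero_smul]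
  · simp

variable {α}

theorem divide (hcop : (Nat.card G).Coprime p) (x : Ext G p) : ∃ y : Ext G p, p • y = x := by
  have hN : Nat.card G • x = 0 := by
    induction x using TensorProduct.induction_on with
    | zero => simp
    | tmul c u => rw [TensorProduct.smul_tmul', TensorProduct.smul_tmul, card_nsmul_eq_zero, TensorProduct.tmul_zero]
    | add x y hx hy => rw [smul_add, hx, hy, add_zero]
  have h := Nat.gcd_eq_gcd_ab p (Nat.card G)
  rw [hcop.symm] at h
  refine ⟨(Nat.gcdA p (Nat.card G)) • x, ?_⟩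
  have h1 : ((1 : ℕ) : ℤ) • x = x := by simp
  conv_rhs => rw [← h1, h, add_smul, mul_comm (Nat.card G : ℤ), mul_smul, mul_smul, natCast_zsmul,
    natCast_zsmul, hN, smul_zero, add_zero]

theorem eig_zero (hα : α ^ p = 1) (hfpf : ∀ g : G, α g = g → g = 1) (hcop : (Nat.card G).Coprime p) :
    eig α p (0 : ZMod p) = ⊥ := by
  rw [eq_bot_iff]
  intro x hx
  have h1 : extMap α p x = x := by simpa [mem_eig, root'_zero] using hx
  have hsum : ∀ y : GrLie G, ∑ k : ZMod p, (grMap α)^[k.val] y = 0 := by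
    intro y
    refine grMap_fixed α hfpf _ ?_
    rw [map_sum]
    exact Fintype.sum_equiv (Equiv.addRight (1 : ZMod p)) _ _ fun k =>
      iterate_val_succ _ (grMap_iterate_p α hα) k y
  have h2 : ∀ z : Ext G p, ∑ k : ZMod p, (extMap α p)^[k.val] z = 0 := by
    intro z
    induction z using TensorProduct.induction_on with
    | zero => simp [iterate_map_zero]
    | tmul c u => simp only [extMap_iterate_tmul, ← TensorProduct.tmul_sum, hsum, TensorProduct.tmul_zero]
    | add y z hy hz => simp only [iterate_map_add, Finset.sum_add_distrib, hy, hz, add_zero]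
  have h3 : p • x = 0 := by
    have := h2 x
    simp only [Function.iterate_fixed h1, Finset.sum_const, Finset.card_univ, ZMod.card] at this
    exact this
  rw [AddSubgroup.mem_bot]
  have hN : Nat.card G • x = 0 := by
    clear h3 h1 hx
    induction x using TensorProduct.induction_on with
    | zero => simp
    | tmul c u => rw [TensorProduct.smul_tmul', TensorProduct.smul_tmul, card_nsmul_eq_zero, TensorProduct.tmul_zero]
    | add x y hx hy => rw [smul_add, hx, hy, add_zero]
  have := Nat.gcd_eq_gcd_ab (Nat.card G) p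
  rw [hcop] at this
  have h4 : ((1 : ℕ) : ℤ) • x = 0 := by
    rw [this, add_smul, mul_comm (Nat.card G : ℤ), mul_comm (p : ℤ), mul_smul, mul_smul, natCast_zsmul,
      natCast_zsmul, hN, h3, smul_zero, smul_zero, add_zero]
  simpa using h4

theorem isFree_eig (hα : α ^ p = 1) (hfpf : ∀ g : G, α g = g → g = 1) (hcop : (Nat.card G).Coprime p) :
    IsFree (fun a : ZMod p => eig α p a) := by
  refine ⟨eig_zero hα hfpf hcop, fun {i j x y} hx hy => ?_⟩
  rw [mem_eig] at hx hy ⊢
  rw [extMap_lie, hx, hy, xsmul_lie, xlie_smul, smul_smul, ← root'_add]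

theorem mem_iSup_lser (hα : α ^ p = 1) (hcop : (Nat.card G).Coprime p) (n : ℕ) :
    ∀ g ∈ lcs G n, (1 : Cyc p) ⊗ₜ[ℤ] io n g ∈ ⨆ a : ZMod p, lser (fun a : ZMod p => eig α p a) n a := by
  have hall : ∀ x : Ext G p, x ∈ ⨆ a : ZMod p, lser (fun a : ZMod p => eig α p a) 0 a := by
    intro x
    obtain ⟨y, hy⟩ := divide hcop x
    rw [← hy, ← sum_proj α y]
    exact AddSubgroup.sum_mem _ fun a _ => AddSubgroup.mem_iSup_of_mem a (proj_mem α hα a y)
  induction n with
  | zero => exact fun g _ => hall _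
  | succ n ih =>
    intro g hg
    set S := ⨆ a : ZMod p, lser (fun a : ZMod p => eig α p a) (n + 1) a
    suffices h : g ∈ lcs G (n + 1) ∧ (1 : Cyc p) ⊗ₜ[ℤ] io (n + 1) g ∈ S from h.2
    have hg' : g ∈ Subgroup.closure {z | ∃ x ∈ lcs G n, ∃ y ∈ (⊤ : Subgroup G), ⁅x, y⁆ = z} := by
      rw [← Subgroup.commutator_def]
      exact hg
    clear hg
    induction hg' using Subgroup.closure_induction with
    | mem z hz =>
      obtain ⟨x, hx, y, -, rfl⟩ := hz
      refine ⟨comm_top hx y, ?_⟩
      rw [← show ⁅(1 : Cyc p) ⊗ₜ[ℤ] io n x, (1 : Cyc p) ⊗ₜ[ℤ] io 0 y⁆ = (1 : Cyc p) ⊗ₜ[ℤ] io (n + 1) ⁅x, y⁆ by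
        rw [LieAlgebra.ExtendScalars.bracket_tmul, mul_one, lie_io hx (Subgroup.mem_top y)]]
      have hu := ih x hx
      have hv := hall ((1 : Cyc p) ⊗ₜ[ℤ] io 0 y)
      generalize (1 : Cyc p) ⊗ₜ[ℤ] io n x = u at hu ⊢
      generalize (1 : Cyc p) ⊗ₜ[ℤ] io 0 y = v at hv ⊢
      refine AddSubgroup.iSup_induction _ (C := fun u => ⁅u, v⁆ ∈ S) hu (fun i u hu => ?_) (by simp only [xzero_lie, zero_mem])
        (fun u u' h h' => by rw [xadd_lie]; exact add_mem h h')
      refine AddSubgroup.iSup_induction _ (C := fun v => ⁅u, v⁆ ∈ S) hv (fun j v hv => ?_) (by simp only [xlie_zero, zero_mem])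
        (fun u u' h h' => by rw [xlie_add]; exact add_mem h h')
      exact AddSubgroup.mem_iSup_of_mem (i + j) (mem_fbr hu hv)
    | one =>
      refine ⟨one_mem _, ?_⟩
      rw [io_one, TensorProduct.tmul_zero]
      exact zero_mem _
    | mul a b _ _ ha hb =>
      refine ⟨mul_mem ha.1 hb.1, ?_⟩
      rw [io_mul ha.1 hb.1, TensorProduct.tmul_add]
      exact add_mem ha.2 hb.2
    | inv a _ ha =>
      refine ⟨inv_mem ha.1, ?_⟩
      rw [io_inv ha.1, TensorProduct.tmul_neg]
      exact neg_mem ha.2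

theorem lcs_eq_bot_of_lser (hnil : Group.IsNilpotent G) (hα : α ^ p = 1) (hcop : (Nat.card G).Coprime p)
    {m : ℕ} (h : ∀ a : ZMod p, lser (fun a : ZMod p => eig α p a) m a = ⊥) : lcs G m = ⊥ := by
  have hmon : (Polynomial.cyclotomic p ℤ).Monic := Polynomial.cyclotomic.monic p ℤ
  let pb := AdjoinRoot.powerBasis' hmon
  have hdim : 0 < pb.dim := by
    rw [AdjoinRoot.powerBasis'_dim, Polynomial.natDegree_cyclotomic]
    exact Nat.totient_pos.mpr hp.out.pos
  let r : Cyc p →ₗ[ℤ] ℤ := pb.basis.coord ⟨0, hdim⟩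
  have hr : r 1 = 1 := by
    have : pb.basis ⟨0, hdim⟩ = 1 := by rw [pb.basis_eq_pow]; simp
    rw [← this, Module.Basis.coord_apply, Module.Basis.repr_self, Finsupp.single_eq_same]
  have hinj : ∀ x : GrLie G, (1 : Cyc p) ⊗ₜ[ℤ] x = 0 → x = 0 := by
    intro x hx
    have := congrArg (fun t => TensorProduct.lid ℤ (GrLie G) (LinearMap.rTensor (GrLie G) r t)) hx
    simpa [hr] using this
  have hstab : lcs G m ≤ lcs G (m + 1) := fun g hg => by
    refine mem_of_io_eq_zero hg (hinj _ ?_)
    have := mem_iSup_lser hα hcop m g hg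
    simpa [h] using this
  have hall : ∀ k, lcs G m ≤ lcs G (m + k) := by
    intro k
    induction k with
    | zero => exact le_rfl
    | succ k ih =>
      refine hstab.trans ?_
      show ⁅lcs G m, ⊤⁆ ≤ ⁅lcs G (m + k), ⊤⁆
      exact Subgroup.commutator_mono ih le_rfl
  obtain ⟨c, hc⟩ := Subgroup.nilpotent_iff_lowerCentralSeries.mp hnil
  rw [eq_bot_iff, ← hc]
  exact (hall c).trans (lcs_antitone (Nat.le_add_left c m))

theorem coprime_of_fpf (hα : α ^ p = 1) (hfpf : ∀ g : G, α g = g → g = 1) : (Nat.card G).Coprime p := by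
  classical
  haveI := Fintype.ofFinite G
  let σ : Equiv.Perm G := α.toEquiv
  have hpow : ∀ n : ℕ, ∀ g, (σ ^ n) g = (α ^ n) g := by
    intro n
    induction n with
    | zero => exact fun g => rfl
    | succ n ih => intro g; rw [pow_succ', pow_succ', Equiv.Perm.mul_apply, ih]; rfl
  have h := Equiv.Perm.card_fixedPoints_modEq (f := (α : G → G)) (n := 1) (p := p) (by
    funext g
    have := hpow p g
    rw [hα] at this
    rw [pow_one]
    have e : ∀ n : ℕ, (α : G → G)^[n] g = (α ^ n) g := by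
      intro n
      induction n with
      | zero => rfl
      | succ n ih => rw [Function.iterate_succ_apply', ih, pow_succ']; rfl
    show (α : G → G)^[p] g = g
    rw [e, hα]; rfl)
  have h1 : Fintype.card (Function.fixedPoints (α : G → G)) = 1 :=
    Fintype.card_eq_one_iff.mpr ⟨⟨1, map_one α⟩, fun x => Subtype.ext (hfpf x.1 x.2)⟩
  rw [h1, ← Nat.card_eq_fintype_card] at h
  rw [Nat.coprime_comm, hp.out.coprime_iff_not_dvd]
  intro hdvd
  have := (Nat.modEq_zero_iff_dvd.mpr hdvd).symm.trans h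
  exact hp.out.one_lt.ne' (Nat.dvd_one.mp (Nat.modEq_zero_iff_dvd.mp this.symm))

end Cfsg.Agent.HigmanFPF
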